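import Cfsg.Agent.Lib.GG.Odds0
import Cfsg.Agent.Lib.GG.Spread2

/-! Odd characteristic: the perfect residual. -/

set_option autoImplicit false

namespace H88.GG
open Module Subgroup Cfsg
open scoped MatrixGroups

universe u v

variable {p : ℕ} [Fact p.Prime] {G : Type*} [Group G] [Finite G] {V : Type*} [AddCommGroup V]
  [Module (ZMod p) V] [Finite V] {ρ : G →* End (ZMod p) V}
variable [Nontrivial V]

/-- `ker f` is central of order 2.  Lift two disjoint 3-cycles to commuting elements of order 3: `mem_zpowers` forces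
`p = 3`.  `|G| = 5040`, `560 ∣ 3^n - 1` (`index_dvd`), so `12 ∣ n`; `card_le` and `n₃ ∣ 560` give `3^n ≤ 559²`. -/
theorem not_a7 (h : St ρ) (hp : p ≠ 2) (f : G →* alternatingGroup (Fin 7))
    (hf : Function.Surjective f) (hk : Nat.card f.ker = 2) : False := by
  classical
  have ksq : ∀ z ∈ f.ker, z ^ 2 = 1 := fun z hz =>
    orderOf_dvd_iff_pow_eq_one.mp (hk ▸ f.ker.orderOf_dvd_natCard hz)
  have kc : ∀ z ∈ f.ker, ∀ g, g * z = z * g := fun z hz g => by
    by_cases e : z = 1
    · rw [e, mul_one, one_mul]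
    obtain ⟨w, -, hw⟩ := (Nat.card_eq_two_iff' (1 : f.ker)).mp hk
    have k1 := hw ⟨z, hz⟩ fun k => e (congrArg Subtype.val k)
    have k2 := hw ⟨g * z * g⁻¹, (f.normal_ker).conj_mem z hz g⟩ fun k =>
      e (conj_eq_one_iff.mp (congrArg Subtype.val k))
    exact mul_inv_eq_iff_eq_mul.mp (congrArg Subtype.val (k2.trans k1.symm))
  have lift : ∀ c : alternatingGroup (Fin 7), c ^ 3 = 1 → c ≠ 1 → ∃ a, f a = c ∧ orderOf a = 3 :=
    fun c c1 c2 => by
      obtain ⟨x, rfl⟩ := hf c
      have k : f (x ^ 4) = f x := by rw [map_pow, pow_succ, c1, one_mul]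
      refine ⟨x ^ 4, k, orderOf_eq_prime ?_ fun e => c2 (by rw [← k, e, map_one])⟩
      rw [← pow_mul, show 4 * 3 = 3 * 2 * 2 from rfl, pow_mul, pow_mul,
        ksq (x ^ 3) (by rw [MonoidHom.mem_ker, map_pow, c1]), one_pow]
  let c1 : alternatingGroup (Fin 7) := ⟨Equiv.swap 0 1 * Equiv.swap 0 2, by
    simp [Equiv.Perm.mem_alternatingGroup]⟩
  let c2 : alternatingGroup (Fin 7) := ⟨Equiv.swap 3 4 * Equiv.swap 3 5, by
    simp [Equiv.Perm.mem_alternatingGroup]⟩
  obtain ⟨a, a1, a2⟩ := lift c1 (Subtype.ext (by decide)) (by decide)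
  obtain ⟨b, b1, b2⟩ := lift c2 (Subtype.ext (by decide)) (by decide)
  have hc : a * b = b * a := by
    have k : b⁻¹ * a * b * a⁻¹ ∈ f.ker := by
      rw [MonoidHom.mem_ker, map_mul, map_mul, map_mul, map_inv, map_inv, a1, b1]
      exact Subtype.ext (by decide)
    obtain ⟨z, hz⟩ : ∃ z, z = b⁻¹ * a * b * a⁻¹ := ⟨_, rfl⟩
    rw [← hz] at k
    have k1 : b⁻¹ * a * b⁻¹⁻¹ = z * a := by rw [hz]; group
    have k2 : (z * a) ^ 3 = 1 := by
      rw [← k1, conj_pow, ← a2, pow_orderOf_eq_one, mul_one, mul_inv_cancel]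
    rw [Commute.mul_pow (kc z k a).symm, ← a2, pow_orderOf_eq_one, mul_one, a2, pow_succ, ksq z k,
      one_mul] at k2
    rw [k2, one_mul, inv_inv, mul_assoc, inv_mul_eq_iff_eq_mul] at k1
    exact k1
  obtain rfl : p = 3 := by
    by_contra h3
    obtain ⟨k, hk⟩ := h.fp.mem_zpowers Nat.prime_three (Ne.symm h3) a2 b2 hc
    have k1 : (c1 : Equiv.Perm (Fin 7)) ^ k = c2 := by
      rw [← SubgroupClass.coe_zpow, ← a1, ← b1, ← map_zpow, ← hk]
    have k2 := Equiv.Perm.zpow_apply_eq_self_of_apply_eq_self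
      (show (c1 : Equiv.Perm (Fin 7)) 3 = 3 by decide) k
    rw [k1] at k2
    exact absurd k2 (by decide)
  have hG : Nat.card G = 5040 := by
    rw [← f.ker.index_mul_card, index_ker, MonoidHom.range_eq_top.mpr hf, card_top, hk,
      nat_card_alternatingGroup, Nat.card_eq_fintype_card, Fintype.card_fin]
    rfl
  obtain ⟨P⟩ : Nonempty (Sylow 3 G) := inferInstance
  have hi : (P : Subgroup G).index = 560 := by
    have k := (P : Subgroup G).index_mul_card
    rw [P.card_eq_multiplicity, hG, show Nat.factorization 5040 3 = 2 by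
      rw [show 5040 = 3 ^ 2 * 560 from rfl, Nat.factorization_mul (by norm_num) (by norm_num),
        Nat.prime_three.factorization_pow, Finsupp.add_apply, Finsupp.single_eq_same,
        Nat.factorization_eq_zero_of_not_dvd (by norm_num)]] at k
    omega
  have k1 := h.index_dvd P ⊤ fun _ _ _ => trivial
  have k2 := h.card_le (by rw [hG]; norm_num)
  have k3 := Nat.le_of_dvd (by omega) P.card_dvd_index
  obtain ⟨n, hn⟩ := card_pow (p := 3) (⊤ : Submodule (ZMod 3) V)
  have k4 : Nat.card V = 3 ^ n := (Nat.card_congr Submodule.topEquiv.toEquiv).symm.trans hn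
  have k5 := Finite.one_lt_card (α := V)
  have k6 := k2.trans (Nat.pow_le_pow_left (show _ ≤ 559 by omega) 2)
  rw [hi, hn] at k1
  rw [k4] at k5 k6
  have k7 : n < 12 := (Nat.pow_lt_pow_iff_right (by norm_num)).mp (k6.trans_lt (by norm_num))
  interval_cases n <;> omega

theorem odds (hp : p ≠ 2) (h : St ρ) (hns : ¬ Group.IsSolvable G) :
    ∃ (S : Subgroup G) (F : Type) (_ : Field F) (_ : Fintype F), S.Normal ∧ Odd (Fintype.card F) ∧
      3 < Fintype.card F ∧ Nonempty (S ≃* SL(2, F)) := by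
  obtain ⟨D, d1, d2, d3⟩ := exists_perfect hns
  haveI := (Subgroup.nontrivial_iff_ne_bot D).mpr d2
  have k := h.normal D
  rcases odds1 hp k.fp k.pCore_eq_bot (map_injective D.subtype_injective (by
    rw [_root_.commutator_def, map_commutator, ← MonoidHom.range_eq_map, range_subtype, d3])) with
    ⟨F, _, _, f1, f2, f3⟩ | ⟨f, f1, f2⟩
  · exact ⟨D, F, _, _, d1, f1, f2, f3⟩
  · exact (not_a7 k hp f f1 f2).elim

end H88.GG
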