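import Cfsg.Agent.Lib.GG.Odd2
import Cfsg.Agent.Lib.GWCor.Quat
import Cfsg.Agent.Lib.Core.PCore
import Cfsg.Agent.S0205

/-! Odd characteristic: the perfect residual. -/

set_option autoImplicit false

namespace H88.GG
open Module Subgroup Cfsg
open scoped MatrixGroups

universe u v

/-- A nontrivial solvable normal subgroup contains a nontrivial abelian normal subgroup. -/
theorem odds0_ab {G : Type*} [Group G] (N : Subgroup G) [N.Normal] [hs : Group.IsSolvable N]
    (hN : N ≠ ⊥) : ∃ A : Subgroup G, A.Normal ∧ A ≤ N ∧ A ≠ ⊥ ∧ IsMulCommutative A := by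
  classical
  obtain ⟨n, hn⟩ := hs.solvable
  have hex : ∃ n, derivedSeries N n = ⊥ := ⟨n, hn⟩
  have h0 : Nat.find hex ≠ 0 := by
    intro e
    have := Nat.find_spec hex
    rw [e, derivedSeries_zero] at this
    apply hN
    rw [eq_bot_iff]
    intro x hx
    have : (⟨x, hx⟩ : N) ∈ (⊥ : Subgroup N) := this ▸ mem_top _
    rw [mem_bot] at this ⊢
    exact congrArg Subtype.val this
  obtain ⟨m, hm⟩ := Nat.exists_eq_succ_of_ne_zero h0
  have h1 : derivedSeries N (m + 1) = ⊥ := by
    have := Nat.find_spec hex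
    rwa [hm] at this
  have h2 : derivedSeries N m ≠ ⊥ := Nat.find_min hex (by omega)
  refine ⟨(derivedSeries N m).map N.subtype, inferInstance, map_subtype_le _, ?_, ?_⟩
  · intro e
    exact h2 ((map_eq_bot_iff_of_injective _ N.subtype_injective).1 e)
  · rw [derivedSeries_succ, commutator_eq_bot_iff_le_centralizer] at h1
    refine ⟨⟨fun a b => ?_⟩⟩
    obtain ⟨_, x, hx, rfl⟩ := a
    obtain ⟨_, y, hy, rfl⟩ := b
    apply Subtype.ext
    have := (mem_centralizer_iff.1 (h1 hy)) x hx
    exact congrArg (Subtype.val : N → G) this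

variable {p : ℕ} [Fact p.Prime] {G : Type*} [Group G] [Finite G] {V : Type*} [AddCommGroup V]
  [Module (ZMod p) V] [Finite V] {ρ : G →* End (ZMod p) V}
variable [Nontrivial V]

/-- `|G|` is even (S0205); every involution acts as `-1` (`FP.neg`), so there is exactly one, `z`, central.  `O(G) = 1`: it
is solvable, and the last term of its derived series is trivial by `no_ab` (`D = ⊤`).  Lib/GWCor/Quat: `exists_cov`,
`d2_of_rankOne`, `core_eq_bot_of_central`, `D2.isL` (or S0483 directly), `sl_of_uniqInv`. -/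
theorem odds1 (hp : p ≠ 2) (h : FP ρ) (hO : pCore p G = ⊥) [Nontrivial G]
    (hD : commutator G = ⊤) :
    (∃ (F : Type) (_ : Field F) (_ : Fintype F), Odd (Fintype.card F) ∧ 3 < Fintype.card F ∧
      Nonempty (G ≃* SL(2, F))) ∨
    ∃ f : G →* alternatingGroup (Fin 7), Function.Surjective f ∧ Nat.card f.ker = 2 := by
  have hns : ¬ Group.IsSolvable G := by
    intro hs
    have := Group.IsSolvable.commutator_lt_top_of_nontrivial G
    rw [hD] at this
    exact lt_irrefl _ this
  have hev : 2 ∣ Nat.card G := by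
    by_contra hn
    exact hns (Cfsg.Agent.S0205.result (Nat.odd_iff.2 (by omega)))
  have : Fact (Nat.Prime 2) := ⟨Nat.prime_two⟩
  obtain ⟨z, hz⟩ := exists_prime_orderOf_dvd_card' 2 hev
  have hu : H41.UniqInv G := fun a b ha hb ha1 hb1 =>
    h.inj ((h.neg hp ⟨ha1, ha⟩).trans (h.neg hp ⟨hb1, hb⟩).symm)
  have hcore : pPrimeCore 2 G = ⊥ := by
    by_contra hne
    have hodd : Odd (Nat.card (pPrimeCore 2 G)) :=
      Nat.coprime_two_right.1 (H1.coprime_card_pPrimeCore (p := 2) (G := G))
    have : Group.IsSolvable (pPrimeCore 2 G) := Cfsg.Agent.S0205.result hodd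
    obtain ⟨A, hAn, hAle, hA, hAc⟩ := odds0_ab (pPrimeCore 2 G) hne
    refine hA (h.no_ab hO (D := ⊤) (N := A) hD le_top ?_)
    exact Odd.of_dvd_nat hodd (card_dvd_of_le hAle)
  obtain ⟨Q, _, _, f, hf⟩ := H29.exists_cov hu hz
  have hQ : ¬ Group.IsSolvable Q := fun hs => hns (hf.isSolvable_iff.2 hs)
  have : Nontrivial Q := by
    by_contra hn
    rw [not_nontrivial_iff_subsingleton] at hn
    exact hQ inferInstance
  have : Group.IsPerfect Q := by
    refine ⟨?_⟩
    have := map_commutator_eq G f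
    rw [hD, ← MonoidHom.range_eq_map, MonoidHom.range_eq_top.2 hf.surj] at this
    exact this.symm
  rcases H29.D2.isL hf.d2 (hf.core hcore) with ⟨F, _, _, hF, h3, ⟨e⟩⟩ | ⟨⟨e⟩⟩
  · exact Or.inl ⟨F, _, _, hF, h3, hf.sl (by rwa [Nat.card_eq_fintype_card]) e⟩
  · exact Or.inr ⟨_, (hf.equiv e).surj, (hf.equiv e).card_ker⟩

end H88.GG
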